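import Cfsg.Agent.Lib.PGroup.Basic
import Mathlib.FieldTheory.IntermediateField.Adjoin.Algebra
import Mathlib.FieldTheory.Finite.Basic

/-!
# Groups of class two over the additive group of a field with an automorphism lifting a multiplication

The kernel of such a group has order at most that of `K / E`, where `E` is the field generated by `lam + lam⁻¹`, and
two of them of maximal order are isomorphic: any one of maximal order maps onto every other one.
-/

set_option autoImplicit false

namespace CfsgLib.UNPN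

open Subgroup
open scoped commutatorElement

/-- A finite group with an automorphism inducing multiplication by `lam` on a central quotient `K`. -/
structure Cov (p : ℕ) {K : Type*} [Field K] (lam : K) (H : Type*) [Group H] where
  β : MulAut H
  η : H →* Multiplicative K
  surj : Function.Surjective η
  act : ∀ h, (η (β h)).toAdd = lam * (η h).toAdd
  central : η.ker ≤ center H
  fixed : ∀ z ∈ η.ker, β z = z
  exp : ∀ z ∈ η.ker, z ^ p = 1
  ker_le : η.ker ≤ _root_.commutator H

section general

variable {H A : Type*} [Group H] [CommGroup A] {η : H →* A}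

theorem comm_mem_center (hc : η.ker ≤ center H) (a b : H) : ⁅a, b⁆ ∈ center H :=
  hc (by rw [MonoidHom.mem_ker, map_commutatorElement, commutatorElement_eq_one_iff_mul_comm, mul_comm])

/-- A subgroup covering a central quotient that contains the kernel or the commutators is everything. -/
theorem eq_top_of_cover (hc : η.ker ≤ center H) (hk : η.ker ≤ _root_.commutator H) {S : Subgroup H}
    (hS : ∀ h, ∃ s ∈ S, η s = η h) : S = ⊤ := by
  have hcomm : _root_.commutator H ≤ S := Subgroup.commutator_le.2 fun a _ b _ => by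
    obtain ⟨s, hs, hsa⟩ := hS a
    obtain ⟨t, ht, htb⟩ := hS b
    obtain ⟨z, hz, rfl⟩ : ∃ z ∈ center H, a = s * z :=
      ⟨s⁻¹ * a, hc (by rw [MonoidHom.mem_ker, map_mul, map_inv, hsa, inv_mul_cancel]), (mul_inv_cancel_left s a).symm⟩
    obtain ⟨w, hw, rfl⟩ : ∃ w ∈ center H, b = t * w :=
      ⟨t⁻¹ * b, hc (by rw [MonoidHom.mem_ker, map_mul, map_inv, htb, inv_mul_cancel]), (mul_inv_cancel_left t b).symm⟩
    have e1 : ∀ {x : H}, x ∈ center H → ∀ y : H, ⁅x, y⁆ = 1 := fun hx y =>
      commutatorElement_eq_one_iff_mul_comm.2 (mem_center_iff.1 hx y).symm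
    have e2 : ∀ {x : H}, x ∈ center H → ∀ y : H, ⁅y, x⁆ = 1 := fun hx y =>
      commutatorElement_eq_one_iff_mul_comm.2 (mem_center_iff.1 hx y)
    rw [PGroup.comm_mul_left (by rw [e1 hz]; exact one_mem _), e1 hz, mul_one,
      PGroup.comm_mul_right (by rw [e2 hw]; exact one_mem _), e2 hw, mul_one]
    rw [commutatorElement_def]
    exact mul_mem (mul_mem (mul_mem hs ht) (inv_mem hs)) (inv_mem ht)
  refine (eq_top_iff' S).2 fun h => ?_
  obtain ⟨s, hs, hsh⟩ := hS h
  have : s⁻¹ * h ∈ S := hcomm (hk (by rw [MonoidHom.mem_ker, map_mul, map_inv, hsh, inv_mul_cancel]))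
  simpa using mul_mem hs this

/-- If the kernel is fixed, of exponent `p`, and `u⁻¹ β u` generate, then the kernel consists of commutators. -/
theorem ker_le_commutator [Finite H] {p : ℕ} (β : MulAut H) (hp : ∀ h, η h ^ p = 1)
    (hf : ∀ z ∈ η.ker, β z = z)
    (hgen : closure (Set.range fun x : H => x⁻¹ * β x) = ⊤) :
    η.ker ≤ _root_.commutator H ∧ ∀ h : H, h ^ p ∈ _root_.commutator H := by
  let π : H →* Abelianization H := Abelianization.of
  have hker : ∀ g : H, π g = 1 ↔ g ∈ _root_.commutator H := fun g =>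
    QuotientGroup.eq_one_iff (N := _root_.commutator H) g
  let T : Abelianization H →* Abelianization H := Abelianization.map β.toMonoidHom
  have hT : ∀ h, T (π h) = π (β h) := fun h => Abelianization.lift_apply_of _ h
  let D : Abelianization H →* Abelianization H :=
    MonoidHom.mk' (fun x => x⁻¹ * T x) fun x y => by rw [map_mul, mul_inv]; exact mul_mul_mul_comm _ _ _ _
  have hD : Function.Surjective D := by
    intro y
    induction y using QuotientGroup.induction_on with
    | _ h =>
      have hle : closure (Set.range fun x : H => x⁻¹ * β x) ≤ D.range.comap π := by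
        rw [closure_le]
        rintro _ ⟨x, rfl⟩
        exact ⟨π x, by show (π x)⁻¹ * T (π x) = π (x⁻¹ * β x); rw [hT, map_mul, map_inv]⟩
      exact hle (hgen.ge (mem_top h))
  have hDi : Function.Injective D := Finite.injective_iff_surjective.2 hD
  refine ⟨fun z hz => (hker z).1 (hDi ?_), fun h => (hker _).1 ?_⟩
  · rw [map_one]
    show (π z)⁻¹ * T (π z) = 1
    rw [hT, hf z hz, inv_mul_cancel]
  · refine hDi ?_
    rw [map_one]
    show (π (h ^ p))⁻¹ * T (π (h ^ p)) = 1
    rw [hT, hf (h ^ p) (by rw [MonoidHom.mem_ker, map_pow, hp]), inv_mul_cancel]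

end general

variable {p : ℕ} [hp : Fact p.Prime] {K : Type*} [Field K] [Algebra (ZMod p) K] {lam : K}

/-- An additive subgroup that contains a non-zero element and is closed under a generator is everything. -/
theorem addSubgroup_eq_top (hlam : Algebra.adjoin (ZMod p) {lam} = ⊤) {S : AddSubgroup K} {w : K} (hw0 : w ≠ 0)
    (hw : w ∈ S) (hcl : ∀ y ∈ S, lam * y ∈ S) : S = ⊤ := by
  have key : ∀ f : Polynomial (ZMod p), Polynomial.aeval lam f * w ∈ S := by
    intro f
    induction f using Polynomial.induction_on' with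
    | add f g hf hg => rw [map_add, add_mul]; exact S.add_mem hf hg
    | monomial n c =>
      rw [Polynomial.aeval_monomial, mul_assoc, ← Algebra.smul_def]
      refine ZMod.smul_mem (K := S) ?_ c
      induction n with
      | zero => simpa using hw
      | succ n ih => rw [pow_succ', mul_assoc]; exact hcl _ ih
  refine eq_top_iff.2 fun y _ => ?_
  have hy : y * w⁻¹ ∈ Algebra.adjoin (ZMod p) {lam} := hlam ▸ Algebra.mem_top
  rw [Algebra.adjoin_singleton_eq_range_aeval] at hy
  obtain ⟨f, hf⟩ := hy
  have h1 := key f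
  rw [show Polynomial.aeval lam f = y * w⁻¹ from hf, mul_assoc, inv_mul_cancel₀ hw0, mul_one] at h1
  exact h1

namespace Cov

variable {H : Type*} [Group H] (C : Cov p lam H)
include C

omit hp [Algebra (ZMod p) K] in
theorem comm_center (a b : H) : ⁅a, b⁆ ∈ center H := comm_mem_center C.central a b

omit hp [Algebra (ZMod p) K] in
theorem comm_fixed (a b : H) : C.β ⁅a, b⁆ = ⁅a, b⁆ :=
  C.fixed _ (by rw [MonoidHom.mem_ker, map_commutatorElement, commutatorElement_eq_one_iff_mul_comm, mul_comm])

omit hp [Algebra (ZMod p) K] in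
theorem act_zpow (i : ℤ) (hlam : lam ≠ 0) (h : H) : (C.η ((C.β ^ i) h)).toAdd = lam ^ i * (C.η h).toAdd := by
  induction i generalizing h with
  | zero => simp
  | succ n ih =>
    rw [zpow_add_one, MulAut.mul_apply, ih, C.act, zpow_add_one₀ hlam]
    ring
  | pred n ih =>
    rw [zpow_sub_one, MulAut.mul_apply, ih, zpow_sub_one₀ hlam]
    have h1 := C.act (C.β⁻¹ h)
    rw [MulAut.apply_inv_self] at h1
    rw [h1]
    field_simp

/-- The kernel is no bigger than `K / E`. -/
theorem card_ker_le [Finite K] [Finite H] (hlam0 : lam ≠ 0) (hlam : Algebra.adjoin (ZMod p) {lam} = ⊤) :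
    ∃ e : ℕ, e ∣ Module.finrank (ZMod p) K ∧ Module.finrank (ZMod p) K ≤ 2 * e ∧
      Nat.card C.η.ker * p ^ e ≤ p ^ Module.finrank (ZMod p) K := by
  classical
  obtain ⟨s, hs⟩ := C.surj (Multiplicative.ofAdd 1)
  have hs' : (C.η s).toAdd = 1 := by rw [hs]; rfl
  let f : H →* H := MonoidHom.mk' (fun t => ⁅s, t⁆) fun a b => PGroup.comm_mul_right (C.comm_center s b)
  have hf : C.η.ker ≤ f.ker := fun z hz => by
    rw [MonoidHom.mem_ker]
    exact commutatorElement_eq_one_iff_mul_comm.2 (mem_center_iff.1 (C.central hz) s)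
  let g : Multiplicative K →* H := C.η.liftOfSurjective C.surj ⟨f, hf⟩
  have hg : ∀ t, g (C.η t) = ⁅s, t⁆ := fun t => MonoidHom.liftOfRightInverse_comp_apply _ _ _ _ t
  -- the kernel is in the range of `g`
  let X : Subgroup H :=
    { carrier := {h | ∀ t, ⁅h, t⁆ ∈ g.range}
      one_mem' := fun t => by rw [commutatorElement_one_left]; exact one_mem _
      mul_mem' := fun {a b} ha hb t => by
        rw [PGroup.comm_mul_left (C.comm_center b t)]; exact mul_mem (ha t) (hb t)
      inv_mem' := fun {a} ha t => by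
        have h := PGroup.comm_mul_left (a := a⁻¹) (b := a) (c := t) (C.comm_center a t)
        rw [inv_mul_cancel, commutatorElement_one_left] at h
        rw [eq_inv_of_mul_eq_one_left h.symm]
        exact inv_mem (ha t) }
  let S : AddSubgroup K := Subgroup.toAddSubgroup' (X.map C.η)
  have hS : S = ⊤ := by
    refine addSubgroup_eq_top hlam one_ne_zero (w := 1) ⟨s, fun t => ⟨C.η t, hg t⟩, hs⟩ ?_
    rintro _ ⟨x, hx, hxy⟩
    refine ⟨C.β x, fun t => ?_, ?_⟩
    · obtain ⟨t, rfl⟩ := C.β.surjective t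
      rw [← map_commutatorElement, C.comm_fixed]
      exact hx t
    · apply Multiplicative.toAdd.injective
      rw [C.act, hxy]
      rfl
  have hX : X = ⊤ := eq_top_of_cover C.central C.ker_le fun h => by
    obtain ⟨x, hx, hxe⟩ : (C.η h).toAdd ∈ S := hS.ge (AddSubgroup.mem_top _)
    exact ⟨x, hx, hxe⟩
  have hker : Nat.card C.η.ker ≤ Nat.card g.range :=
    Subgroup.card_le_of_le (C.ker_le.trans (Subgroup.commutator_le.2 fun a _ b _ => hX.ge (mem_top a) b))
  -- the kernel of `g` contains the field generated by `lam + lam⁻¹`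
  let T : AddSubgroup K :=
    AddSubgroup.closure (insert (1 : K) (Set.range fun i : ℤ => lam ^ i + lam ^ (-i)))
  have hTg : T ≤ Subgroup.toAddSubgroup' g.ker := by
    rw [AddSubgroup.closure_le]
    rintro y (rfl | ⟨i, rfl⟩)
    · show g (Multiplicative.ofAdd 1) = 1
      rw [← hs, hg, commutatorElement_self]
    · show g (Multiplicative.ofAdd (lam ^ i + lam ^ (-i))) = 1
      have e : ∀ j : ℤ, C.η ((C.β ^ j) s) = Multiplicative.ofAdd (lam ^ j) := fun j =>
        Multiplicative.toAdd.injective (by rw [C.act_zpow j hlam0, hs', mul_one]; rfl)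
      rw [ofAdd_add, ← e, ← e, map_mul, hg, hg]
      have hfix : ∀ (j : ℤ) (a b : H), (C.β ^ j) ⁅a, b⁆ = ⁅a, b⁆ := by
        intro j a b
        have h2 : C.β ∈ MulAction.stabilizer (MulAut H) (⁅a, b⁆ : H) := C.comm_fixed a b
        exact Subgroup.zpow_mem _ h2 j
      have e2 : ⁅s, (C.β ^ (-i)) s⁆ = ⁅(C.β ^ i) s, s⁆ := by
        conv_lhs => rw [← hfix i, map_commutatorElement, ← MulAut.mul_apply, ← zpow_add, add_neg_cancel, zpow_zero]
        rfl
      rw [e2, ← commutatorElement_inv, inv_mul_cancel]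
  let μ := lam + lam⁻¹
  have hμT : ∀ y ∈ T, μ * y ∈ T := by
    intro y hy
    induction hy using AddSubgroup.closure_induction with
    | mem y hy =>
      rcases hy with rfl | ⟨i, rfl⟩
      · rw [mul_one]
        exact AddSubgroup.subset_closure (Or.inr ⟨1, by simp [μ]⟩)
      · have : μ * (lam ^ i + lam ^ (-i)) =
            (lam ^ (i + 1) + lam ^ (-(i + 1))) + (lam ^ (i - 1) + lam ^ (-(i - 1))) := by
          simp only [μ, neg_add, neg_sub, zpow_add₀ hlam0, zpow_sub₀ hlam0, zpow_neg, zpow_one]
          field_simp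
          ring
        show μ * (lam ^ i + lam ^ (-i)) ∈ T
        rw [this]
        exact T.add_mem (AddSubgroup.subset_closure (Or.inr ⟨_, rfl⟩))
          (AddSubgroup.subset_closure (Or.inr ⟨_, rfl⟩))
    | zero => rw [mul_zero]; exact T.zero_mem
    | add a b _ _ ha hb => rw [mul_add]; exact T.add_mem ha hb
    | neg a _ ha => rw [mul_neg]; exact T.neg_mem ha
  let E : IntermediateField (ZMod p) K := IntermediateField.adjoin (ZMod p) {μ}
  have hET : ∀ y ∈ E, y ∈ T := by
    intro y hy
    have hy' : y ∈ Algebra.adjoin (ZMod p) {μ} := by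
      rw [← IntermediateField.adjoin_simple_toSubalgebra_of_isAlgebraic (Algebra.IsAlgebraic.isAlgebraic μ)]
      exact hy
    rw [Algebra.adjoin_singleton_eq_range_aeval] at hy'
    obtain ⟨f, rfl⟩ := hy'
    show Polynomial.aeval μ f ∈ T
    clear hy
    induction f using Polynomial.induction_on' with
    | add f g hf hg => rw [map_add]; exact T.add_mem hf hg
    | monomial n c =>
      rw [Polynomial.aeval_monomial, ← Algebra.smul_def]
      refine ZMod.smul_mem (K := T) ?_ c
      induction n with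
      | zero => rw [pow_zero]; exact AddSubgroup.subset_closure (Or.inl rfl)
      | succ n ih => rw [pow_succ']; exact hμT _ ih
  -- `K` is at most quadratic over `E`
  have hmu : μ ∈ E := IntermediateField.mem_adjoin_simple_self (ZMod p) μ
  let R : Submodule E K := Submodule.span E {1, lam}
  have hR : R.toAddSubgroup = ⊤ := by
    refine addSubgroup_eq_top hlam one_ne_zero (w := 1) (Submodule.subset_span (by simp)) fun y hy => ?_
    obtain ⟨a, b, rfl⟩ := Submodule.mem_span_pair.1 hy
    refine Submodule.mem_span_pair.2 ⟨-b, a + b * ⟨μ, hmu⟩, ?_⟩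
    simp only [IntermediateField.smul_def, IntermediateField.coe_neg, IntermediateField.coe_add,
      IntermediateField.coe_mul, smul_eq_mul, μ]
    field_simp
    ring
  have hE2 : Module.finrank E K ≤ 2 := by
    have h1 : R = ⊤ := Submodule.toAddSubgroup_injective (hR.trans Submodule.top_toAddSubgroup.symm)
    rw [← finrank_top E K, ← h1]
    refine le_trans (le_of_eq_of_le (by rw [Finset.coe_insert, Finset.coe_singleton]; rfl) (finrank_span_finset_le_card (R := E) ({1, lam} : Finset K))) ?_
    exact (Finset.card_insert_le _ _).trans (by simp)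
  refine ⟨Module.finrank (ZMod p) E, ⟨Module.finrank E K, (Module.finrank_mul_finrank (ZMod p) E K).symm⟩, ?_, ?_⟩
  · rw [← Module.finrank_mul_finrank (ZMod p) E K, mul_comm 2]
    exact Nat.mul_le_mul_left _ hE2
  · haveI : Fintype K := Fintype.ofFinite K
    haveI : Fintype E := Fintype.ofFinite E
    have h1 : p ^ Module.finrank (ZMod p) E ≤ Nat.card g.ker := by
      have h2 : p ^ Module.finrank (ZMod p) E = Nat.card E := by
        rw [Nat.card_eq_fintype_card, Module.card_eq_pow_finrank (K := ZMod p) (V := E), ZMod.card]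
      rw [h2]
      exact Nat.card_le_card_of_injective (fun y : E => (⟨Multiplicative.ofAdd (y : K), hTg (hET _ y.2)⟩ : g.ker))
        (fun a b h => Subtype.ext (Multiplicative.ofAdd.injective (Subtype.mk.inj h)))
    have h3 : Nat.card g.range * Nat.card g.ker = p ^ Module.finrank (ZMod p) K := by
      rw [← Subgroup.index_ker g, mul_comm, Subgroup.card_mul_index,
        show Nat.card (Multiplicative K) = Nat.card K from rfl, Nat.card_eq_fintype_card,
        Module.card_eq_pow_finrank (K := ZMod p) (V := K), ZMod.card]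
    rw [← h3]
    exact Nat.mul_le_mul hker h1

/-- The order of such a group. -/
theorem card_le [Finite K] [Finite H] (hlam0 : lam ≠ 0) (hlam : Algebra.adjoin (ZMod p) {lam} = ⊤) :
    Nat.card H ≤ p ^ (if Module.finrank (ZMod p) K % 2 = 1 then Module.finrank (ZMod p) K
      else 3 * Module.finrank (ZMod p) K / 2) := by
  obtain ⟨e, hea, hae, hle⟩ := C.card_ker_le hlam0 hlam
  haveI : Fintype K := Fintype.ofFinite K
  set a := Module.finrank (ZMod p) K
  have hK : Nat.card K = p ^ a := by
    rw [Nat.card_eq_fintype_card, Module.card_eq_pow_finrank (K := ZMod p) (V := K), ZMod.card]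
  have hH : Nat.card H = Nat.card C.η.ker * p ^ a := by
    rw [← C.η.ker.card_mul_index, Subgroup.index_ker, C.η.range_eq_top.2 C.surj, Subgroup.card_top,
      show Nat.card (Multiplicative K) = Nat.card K from rfl, hK]
  have ha0 : 0 < a := Module.finrank_pos
  have hea' := Nat.le_of_dvd ha0 hea
  have hker : Nat.card C.η.ker ≤ p ^ (a - e) := by
    refine Nat.le_of_mul_le_mul_right ?_ (pow_pos hp.out.pos e)
    rwa [← pow_add, Nat.sub_add_cancel hea']
  rw [hH]
  refine (Nat.mul_le_mul_right _ hker).trans ?_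
  rw [← pow_add]
  refine Nat.pow_le_pow_right hp.out.pos ?_
  split_ifs with h
  · obtain ⟨c, hc⟩ := hea
    have : c = 1 := by
      rcases lt_or_ge c 2 with hc2 | hc2
      · rcases Nat.eq_zero_or_pos c with rfl | h0
        · simp at hc; omega
        · omega
      · have := Nat.mul_le_mul_left e hc2
        have hc' : c = 2 := by
          by_contra hne
          have h3 : 3 ≤ c := by omega
          have := Nat.mul_le_mul_left e h3
          have : 0 < e := Nat.pos_of_ne_zero fun h0 => by simp [h0] at hc; omega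
          omega
        subst hc'
        omega
    subst this
    omega
  · omega

/-- A group of the maximal order maps onto every other one. -/
theorem exists_hom {H₀ : Type*} [Group H₀] [Finite H₀] [Finite K] [Finite H] (hlam1 : lam ≠ 1) (hlam0 : lam ≠ 0)
    (hlam : Algebra.adjoin (ZMod p) {lam} = ⊤) (hpK : ∀ y : K, p • y = 0) (C₀ : Cov p lam H₀)
    (hmax : Nat.card H₀ = p ^ (if Module.finrank (ZMod p) K % 2 = 1 then Module.finrank (ZMod p) K
      else 3 * Module.finrank (ZMod p) K / 2)) :
    ∃ φ : H₀ →* H, Function.Surjective φ ∧ (∀ h, φ (C₀.β h) = C.β (φ h)) ∧ ∀ h, C.η (φ h) = C₀.η h := by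
  classical
  let γ : MulAut (H₀ × H) := MulEquiv.prodCongr C₀.β C.β
  let P : Subgroup (H₀ × H) → Prop := fun L =>
    (∀ x ∈ L, C₀.η x.1 = C.η x.2) ∧ (∀ x ∈ L, γ x ∈ L) ∧ ∀ y, ∃ x ∈ L, C₀.η x.1 = y
  haveI : Finite (Subgroup (H₀ × H)) := Finite.of_injective _ SetLike.coe_injective
  obtain ⟨L, hL⟩ := (Set.toFinite {L | P L}).exists_minimal (by
    refine ⟨(C₀.η.comp (MonoidHom.fst H₀ H)).eqLocus (C.η.comp (MonoidHom.snd H₀ H)), fun x hx => hx,
      fun x hx => ?_, fun y => ?_⟩
    · apply Multiplicative.toAdd.injective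
      show (C₀.η (C₀.β x.1)).toAdd = (C.η (C.β x.2)).toAdd
      rw [C₀.act, C.act, show C₀.η x.1 = C.η x.2 from hx]
    · obtain ⟨a, rfl⟩ := C₀.surj y
      obtain ⟨b, hb⟩ := C.surj (C₀.η a)
      exact ⟨(a, b), hb.symm, rfl⟩)
  obtain ⟨hLe, hLi, hLs⟩ := hL.prop
  let β' : L →* L := ((γ : (H₀ × H) ≃* (H₀ × H)).toMonoidHom.comp L.subtype).codRestrict L fun x => hLi _ x.2
  have hβ'b : Function.Bijective β' := by
    rw [← Finite.injective_iff_bijective]
    intro x y h
    exact Subtype.ext (γ.injective (congrArg Subtype.val h))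
  let β : MulAut L := MulEquiv.ofBijective β' hβ'b
  have hβ : ∀ x : L, ((β x : L) : H₀ × H) = (C₀.β x.1.1, C.β x.1.2) := fun x => rfl
  let η : L →* Multiplicative K := C₀.η.comp ((MonoidHom.fst H₀ H).comp L.subtype)
  have hη : ∀ x : L, η x = C.η x.1.2 := fun x => hLe _ x.2
  have hsurj : Function.Surjective η := fun y => by
    obtain ⟨x, hx, he⟩ := hLs y
    exact ⟨⟨x, hx⟩, he⟩
  have hk : ∀ z ∈ η.ker, z.1.1 ∈ C₀.η.ker ∧ z.1.2 ∈ C.η.ker := fun z hz => ⟨hz, by
    rw [MonoidHom.mem_ker, ← hη]; exact hz⟩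
  have hfix : ∀ z ∈ η.ker, β z = z := fun z hz => Subtype.ext (by
    rw [hβ, C₀.fixed _ (hk z hz).1, C.fixed _ (hk z hz).2])
  -- minimality
  let S : Subgroup L := closure (Set.range fun x : L => x⁻¹ * β x)
  have hS : S = ⊤ := by
    have hη' : ∀ x : L, (η (x⁻¹ * β x)).toAdd = (lam - 1) * (η x).toAdd := fun x => by
      rw [map_mul, map_inv, toAdd_mul, toAdd_inv, show η (β x) = C₀.η (C₀.β x.1.1) from rfl, C₀.act, sub_mul,
        one_mul, sub_eq_add_neg, add_comm]
      rfl
    have hPS : P (S.map L.subtype) := by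
      refine ⟨?_, ?_, fun y => ?_⟩
      · rintro _ ⟨x, -, rfl⟩; exact hLe _ x.2
      · rintro _ ⟨x, hx, rfl⟩
        refine ⟨β x, ?_, rfl⟩
        have hle : S.map β.toMonoidHom ≤ S := by
          rw [MonoidHom.map_closure, closure_le]
          rintro _ ⟨_, ⟨u, rfl⟩, rfl⟩
          exact subset_closure ⟨β u, by simp⟩
        exact hle ⟨x, hx, rfl⟩
      · obtain ⟨x, hx⟩ := hsurj (Multiplicative.ofAdd (y.toAdd / (lam - 1)))
        refine ⟨_, ⟨x⁻¹ * β x, subset_closure ⟨x, rfl⟩, rfl⟩, Multiplicative.toAdd.injective ?_⟩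
        show (η (x⁻¹ * β x)).toAdd = y.toAdd
        rw [hη', hx, toAdd_ofAdd, mul_div_cancel₀ _ (sub_ne_zero.2 hlam1)]
    have hle := hL.le_of_le hPS (Subgroup.map_subtype_le _)
    refine (eq_top_iff' S).2 fun x => ?_
    obtain ⟨x', hx', e⟩ := hle x.2
    exact (Subtype.ext e : x' = x) ▸ hx'
  have hcen : η.ker ≤ center L := fun z hz => mem_center_iff.2 fun x => Subtype.ext (Prod.ext
    (mem_center_iff.1 (C₀.central (hk z hz).1) _) (mem_center_iff.1 (C.central (hk z hz).2) _))
  have hKp : ∀ x : L, η x ^ p = 1 := fun x => Multiplicative.toAdd.injective (by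
    rw [toAdd_pow, toAdd_one, hpK])
  let CL : Cov p lam L :=
    { β := β, η := η, surj := hsurj, central := hcen, fixed := hfix
      act := fun x => C₀.act _
      exp := fun z hz => Subtype.ext (Prod.ext (C₀.exp _ (hk z hz).1) (C.exp _ (hk z hz).2))
      ker_le := (ker_le_commutator β hKp hfix hS).1 }
  have hs0 : (L.map (MonoidHom.fst H₀ H)) = ⊤ := eq_top_of_cover C₀.central C₀.ker_le fun h => by
    obtain ⟨x, hx, he⟩ := hLs (C₀.η h)
    exact ⟨x.1, ⟨x, hx, rfl⟩, he⟩
  have hs1 : (L.map (MonoidHom.snd H₀ H)) = ⊤ := eq_top_of_cover C.central C.ker_le fun h => by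
    obtain ⟨x, hx, he⟩ := hLs (C.η h)
    exact ⟨x.2, ⟨x, hx, rfl⟩, by rw [← hLe x hx, he]⟩
  let f : L →* H₀ := (MonoidHom.fst H₀ H).comp L.subtype
  have hfs : Function.Surjective f := fun h => by
    obtain ⟨x, hx, e⟩ := hs0.ge (mem_top h)
    exact ⟨⟨x, hx⟩, e⟩
  have hfb : Function.Bijective f := (Nat.bijective_iff_surjective_and_card f).2
    ⟨hfs, le_antisymm ((CL.card_le hlam0 hlam).trans hmax.ge) (Nat.card_le_card_of_surjective f hfs)⟩
  let e : L ≃* H₀ := MulEquiv.ofBijective f hfb
  refine ⟨((MonoidHom.snd H₀ H).comp L.subtype).comp e.symm.toMonoidHom, fun h => ?_, fun h => ?_, fun h => ?_⟩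
  · obtain ⟨x, hx, e'⟩ := hs1.ge (mem_top h)
    refine ⟨e ⟨x, hx⟩, ?_⟩
    show (e.symm (e ⟨x, hx⟩) : H₀ × H).2 = h
    rw [e.symm_apply_apply]; exact e'
  · obtain ⟨x, rfl⟩ := e.surjective h
    show (e.symm (C₀.β (e x)) : H₀ × H).2 = C.β (e.symm (e x) : H₀ × H).2
    rw [e.symm_apply_apply, show C₀.β (e x) = e (β x) from rfl, e.symm_apply_apply]
    rfl
  · obtain ⟨x, rfl⟩ := e.surjective h
    show C.η (e.symm (e x) : H₀ × H).2 = C₀.η (e x)
    rw [e.symm_apply_apply]
    exact (hη x).symm

end Cov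

end CfsgLib.UNPN
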