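import Cfsg.Agent.Lib.Solvable.UniversalNonPNilp.Cover
import Cfsg.Agent.Lib.Transfer.Frobenius
import Mathlib.FieldTheory.Finite.GaloisField
import Mathlib.GroupTheory.SemidirectProduct

/-!
# The universal group: a unitary Heisenberg group extended by a cyclic group
-/

set_option autoImplicit false

namespace CfsgLib.UNPN

open Subgroup
open scoped commutatorElement

section heis

variable {K : Type} [Field K] {W : AddSubgroup K} (b : K →+ K →+ W)

/-- Pairs with a product twisted by a biadditive map. -/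
@[ext] structure Heis (b : K →+ K →+ W) : Type where
  v : K
  z : W

namespace Heis

variable {b}

instance : Mul (Heis b) := ⟨fun x y => ⟨x.v + y.v, x.z + y.z + b x.v y.v⟩⟩
instance : One (Heis b) := ⟨⟨0, 0⟩⟩
instance : Inv (Heis b) := ⟨fun x => ⟨-x.v, -x.z + b x.v x.v⟩⟩

theorem mul_v (x y : Heis b) : (x * y).v = x.v + y.v := rfl
theorem mul_z (x y : Heis b) : (x * y).z = x.z + y.z + b x.v y.v := rfl
theorem one_v : (1 : Heis b).v = 0 := rfl
theorem one_z : (1 : Heis b).z = 0 := rfl
theorem inv_v (x : Heis b) : x⁻¹.v = -x.v := rfl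
theorem inv_z (x : Heis b) : x⁻¹.z = -x.z + b x.v x.v := rfl

instance : Group (Heis b) := Group.ofLeftAxioms
  (fun x y w => by
    ext1
    · simp [mul_v, add_assoc]
    · simp only [mul_z, mul_v, map_add, AddMonoidHom.add_apply]; abel)
  (fun x => by ext1 <;> simp [mul_v, mul_z, one_v, one_z])
  (fun x => by
    ext1
    · simp [mul_v, inv_v, one_v]
    · simp [mul_z, inv_v, inv_z, one_z])

/-- The pairs as a product. -/
def equivProd : Heis b ≃ K × W where
  toFun x := (x.v, x.z)
  invFun x := ⟨x.1, x.2⟩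
  left_inv _ := rfl
  right_inv _ := rfl

theorem pow_v (x : Heis b) (n : ℕ) : (x ^ n).v = n • x.v := by
  induction n with
  | zero => simp [one_v]
  | succ n ih => rw [pow_succ, mul_v, ih, succ_nsmul]

theorem pow_z_of_v (x : Heis b) (h : x.v = 0) (n : ℕ) : (x ^ n).z = n • x.z := by
  induction n with
  | zero => simp [one_z]
  | succ n ih => rw [pow_succ, mul_z, ih, h, succ_nsmul]; simp

/-- Projection. -/
def proj : Heis b →* Multiplicative K where
  toFun x := Multiplicative.ofAdd x.v
  map_one' := rfl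
  map_mul' _ _ := rfl

/-- The automorphism given by a scalar. -/
def scale (lam : K) (hlam : lam ≠ 0) (hinv : ∀ v w, b (lam * v) (lam * w) = b v w) : MulAut (Heis b) where
  toFun x := ⟨lam * x.v, x.z⟩
  invFun x := ⟨lam⁻¹ * x.v, x.z⟩
  left_inv x := by ext1 <;> simp [hlam]
  right_inv x := by ext1 <;> simp [hlam]
  map_mul' x y := by
    ext1
    · show lam * (x * y).v = _
      rw [mul_v, mul_v, mul_add]
    · show (x * y).z = _
      rw [mul_z, mul_z]
      show _ = _ + b (lam * x.v) (lam * y.v)
      rw [hinv]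

theorem scale_pow (lam : K) (hlam : lam ≠ 0) (hinv : ∀ v w, b (lam * v) (lam * w) = b v w) (n : ℕ) (x : Heis b) :
    (scale lam hlam hinv ^ n) x = ⟨lam ^ n * x.v, x.z⟩ := by
  induction n generalizing x with
  | zero => ext1 <;> simp
  | succ n ih =>
    rw [pow_succ, MulAut.mul_apply, ih]
    ext1
    · show lam ^ n * (lam * x.v) = _
      rw [pow_succ, mul_assoc]
    · rfl

/-- The cover structure. -/
def cov {p : ℕ} [Fact p.Prime] [CharP K p] (lam : K) (hlam : lam ≠ 0)
    (hinv : ∀ v w, b (lam * v) (lam * w) = b v w) (hspan : ∀ z : W, ∃ v w, b v w - b w v = z) :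
    Cov p lam (Heis b) where
  β := scale lam hlam hinv
  η := proj
  surj y := ⟨⟨y.toAdd, 0⟩, rfl⟩
  act _ := rfl
  central z hz := by
    have hv : z.v = 0 := hz
    rw [mem_center_iff]
    intro x
    ext1
    · rw [mul_v, mul_v, add_comm]
    · rw [mul_z, mul_z, hv]; simp [add_comm]
  fixed z hz := by
    have hv : z.v = 0 := hz
    ext1
    · show lam * z.v = z.v
      rw [hv, mul_zero]
    · rfl
  exp z hz := by
    have hv : z.v = 0 := hz
    ext1
    · rw [pow_v, hv, smul_zero, one_v]
    · rw [pow_z_of_v z hv, one_z]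
      refine Subtype.ext ?_
      rw [AddSubgroup.coe_nsmul, nsmul_eq_mul, CharP.cast_eq_zero, zero_mul]
      rfl
  ker_le z hz := by
    have hv : z.v = 0 := hz
    obtain ⟨v, w, hvw⟩ := hspan z.z
    suffices h : ⁅(⟨v, 0⟩ : Heis b), ⟨w, 0⟩⁆ = z by
      rw [← h]; exact commutator_mem_commutator (mem_top _) (mem_top _)
    rw [commutatorElement_def]
    ext1
    · simp [mul_v, inv_v, hv]
    · simp [mul_z, mul_v, inv_v, inv_z, ← hvw]; abel

end Heis

end heis

variable {p : ℕ} [hp : Fact p.Prime] {K : Type} [Field K] [Finite K] [CharP K p]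

omit hp [CharP K p] in
theorem card_root_le (n : ℕ) (hn : 2 ≤ n) (c : K) : Nat.card {z : K // z ^ n = c * z} ≤ n := by
  classical
  haveI : Fintype K := Fintype.ofFinite K
  have hP : (Polynomial.X ^ n - Polynomial.C c * Polynomial.X : Polynomial K).natDegree = n := by
    rw [Polynomial.natDegree_sub_eq_left_of_natDegree_lt] <;> rw [Polynomial.natDegree_X_pow]
    exact lt_of_le_of_lt ((Polynomial.natDegree_C_mul_le _ _).trans Polynomial.natDegree_X_le) (by omega)
  have hP0 : (Polynomial.X ^ n - Polynomial.C c * Polynomial.X : Polynomial K) ≠ 0 := fun h => by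
    rw [h, Polynomial.natDegree_zero] at hP; omega
  rw [Nat.card_eq_fintype_card, Fintype.card_subtype]
  refine le_trans (Finset.card_le_card fun z hz => ?_)
    ((Multiset.toFinset_card_le _).trans ((Polynomial.card_roots' _).trans hP.le))
  rw [Multiset.mem_toFinset, Polynomial.mem_roots hP0, Polynomial.IsRoot.def]
  simp [(Finset.mem_filter.1 hz).2]

/-- A group of the maximal order with an automorphism of order dividing `q`. -/
theorem exists_model {a q : ℕ} (hK : Nat.card K = p ^ a) (ha : 0 < a) {lam : K} (hlam0 : lam ≠ 0)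
    (hq : lam ^ q = 1) (hhalf : Even a → lam ^ p ^ (a / 2) * lam = 1) :
    ∃ (H : Type) (_ : Group H) (_ : Finite H) (C : Cov p lam H), C.β ^ q = 1 ∧
      Nat.card H = p ^ (if a % 2 = 1 then a else 3 * a / 2) := by
  by_cases hodd : a % 2 = 1
  · let b : K →+ K →+ (⊥ : AddSubgroup K) := 0
    have hfin : Finite (Heis b) := Finite.of_equiv _ Heis.equivProd.symm
    refine ⟨Heis b, inferInstance, hfin, Heis.cov lam hlam0 (fun _ _ => rfl)
      (fun z => ⟨0, 0, Subsingleton.elim _ _⟩), ?_, ?_⟩
    · ext x <;> simp [Heis.cov, Heis.scale_pow, hq]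
    · rw [if_pos hodd, Nat.card_congr Heis.equivProd, Nat.card_prod, hK, AddSubgroup.card_bot, mul_one]
  · haveI : Fintype K := Fintype.ofFinite K
    have hev : Even a := Nat.even_iff.2 (by omega)
    set h := a / 2 with hh
    have ha2 : h + h = a := by omega
    set σ : K →+* K := iterateFrobenius K p h with hσ
    have hσ' : ∀ x, σ x = x ^ p ^ h := fun x => iterateFrobenius_def _ _ _
    have hσσ : ∀ x, σ (σ x) = x := fun x => by
      rw [hσ', hσ', ← pow_mul, ← pow_add, ha2, ← hK, Nat.card_eq_fintype_card, FiniteField.pow_card]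
    let W : AddSubgroup K := (σ.toAddMonoidHom - AddMonoidHom.id K).ker
    have hW : ∀ z, z ∈ W ↔ σ z = z := fun z => by
      rw [AddMonoidHom.mem_ker, AddMonoidHom.sub_apply, sub_eq_zero]; rfl
    let τ : K →+ W := (AddMonoidHom.id K + σ.toAddMonoidHom).codRestrict W fun z => by
      rw [hW]; show σ (z + σ z) = z + σ z; rw [map_add, hσσ, add_comm]
    have hτ : ∀ z, (τ z : K) = z + σ z := fun z => rfl
    have hn2 : 2 ≤ p ^ h := (hp.out.two_le).trans (Nat.le_self_pow (by omega) p)
    have hWcard : Nat.card W ≤ p ^ h :=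
      (Nat.card_congr (Equiv.subtypeEquivRight fun z => by rw [hW, hσ', one_mul])).trans_le (card_root_le _ hn2 1)
    have hker : Nat.card τ.ker ≤ p ^ h :=
      (Nat.card_congr (Equiv.subtypeEquivRight fun z => by
        rw [AddMonoidHom.mem_ker, ← Subtype.coe_inj, hτ, ZeroMemClass.coe_zero, add_eq_zero_iff_neg_eq, hσ',
          neg_one_mul, eq_comm])).trans_le (card_root_le _ hn2 (-1))
    have hprod : Nat.card τ.range * Nat.card τ.ker = p ^ h * p ^ h := by
      rw [← AddSubgroup.index_ker τ, mul_comm, AddSubgroup.card_mul_index, hK, ← pow_add, ha2]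
    have hrle : Nat.card τ.range ≤ Nat.card W := Nat.card_le_card_of_injective _ Subtype.val_injective
    have hr : Nat.card τ.range = p ^ h := le_antisymm (hrle.trans hWcard) (by
      by_contra hlt
      have := Nat.mul_lt_mul_of_lt_of_le (not_le.1 hlt) hker (pow_pos hp.out.pos h)
      omega)
    have hWeq : Nat.card W = p ^ h := le_antisymm hWcard (hr ▸ hrle)
    have hτs : Function.Surjective τ :=
      AddMonoidHom.range_eq_top.1 (AddSubgroup.eq_top_of_card_eq _ (hr.trans hWeq.symm))
    obtain ⟨θ, hθ⟩ : ∃ θ, σ θ ≠ θ := by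
      by_contra hcon
      push Not at hcon
      have hWt : W = ⊤ := eq_top_iff.2 fun z _ => (hW z).2 (hcon z)
      rw [hWt, AddSubgroup.card_top, hK] at hWeq
      have := Nat.pow_right_injective hp.out.two_le hWeq
      omega
    let b : K →+ K →+ W := AddMonoidHom.mk'
      (fun v => τ.comp ((AddMonoidHom.mulLeft (θ * v)).comp σ.toAddMonoidHom)) fun v w => by
        refine AddMonoidHom.ext fun u => ?_
        show τ (θ * (v + w) * σ u) = τ (θ * v * σ u) + τ (θ * w * σ u)
        rw [← map_add]; congr 1; ring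
    have hb : ∀ v w, b v w = τ (θ * v * σ w) := fun v w => rfl
    have hlam : lam * σ lam = 1 := by rw [hσ', mul_comm]; exact hhalf hev
    have hfin : Finite (Heis b) := Finite.of_equiv _ Heis.equivProd.symm
    refine ⟨Heis b, inferInstance, hfin, Heis.cov lam hlam0 (fun v w => ?_) (fun z => ?_), ?_, ?_⟩
    · rw [hb, hb, map_mul σ, show θ * (lam * v) * (σ lam * σ w) = (lam * σ lam) * (θ * v * σ w) by ring, hlam, one_mul]
    · obtain ⟨u, hu⟩ := hτs z
      refine ⟨u / (θ - σ θ), 1, ?_⟩
      rw [hb, hb, ← hu, map_one, mul_one, mul_one]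
      refine Subtype.ext ?_
      rw [AddSubgroup.coe_sub, hτ, hτ, hτ, map_mul σ θ (σ (u / (θ - σ θ))), hσσ, map_mul]
      have hne : θ - σ θ ≠ 0 := sub_ne_zero.2 (Ne.symm hθ)
      have hne' : σ θ - θ ≠ 0 := sub_ne_zero.2 hθ
      rw [map_div₀, map_sub, hσσ]
      field_simp
      ring
    · ext x <;> simp [Heis.cov, Heis.scale_pow, hq]
    · rw [if_neg hodd, Nat.card_congr Heis.equivProd, Nat.card_prod, hK, hWeq, ← pow_add]
      congr 1
      omega

variable {q : ℕ} [hqF : Fact q.Prime]

/-- Exponent of a power automorphism from the cyclic group of order `n`. -/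
def powHom {H : Type*} [Group H] (β : MulAut H) (n : ℕ) [NeZero n] (hβ : β ^ n = 1) :
    Multiplicative (ZMod n) →* MulAut H where
  toFun x := β ^ x.toAdd.val
  map_one' := by simp
  map_mul' x y := by
    rw [toAdd_mul, ZMod.val_add, ← pow_eq_pow_mod _ hβ, pow_add]

/-- The extension by a cyclic group of order `q ^ r` is minimal non-`p`-nilpotent. -/
theorem minimal_semidirect (hpq : p ≠ q) {lam : K} [Algebra (ZMod p) K] (hlam0 : lam ≠ 0)
    (hgen : ∀ i : ℕ, ¬ q ∣ i → Algebra.adjoin (ZMod p) {lam ^ i} = ⊤) (hlam1 : lam ≠ 1)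
    {H : Type} [Group H] [Finite H] (hH : IsPGroup p H) (C : Cov p lam H) (hβ : C.β ^ q = 1) (r : ℕ) (hr : 1 ≤ r)
    [NeZero (q ^ r)] (hβr : C.β ^ (q ^ r) = 1) :
    let G := H ⋊[powHom C.β (q ^ r) hβr] Multiplicative (ZMod (q ^ r))
    ¬ Cfsg.HasNormalPComplement p G ∧ ∀ M : Subgroup G, M ≠ ⊤ → Cfsg.HasNormalPComplement p M := by
  intro G
  haveI : Finite G := Finite.of_equiv _ SemidirectProduct.equivProd.symm
  have hqp : Nat.Coprime q p := (Nat.coprime_primes hqF.out hp.out).2 (Ne.symm hpq)
  have hconj : ∀ (g : G) (h : H), g * SemidirectProduct.inl h * g⁻¹ =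
      SemidirectProduct.inl (g.left * (C.β ^ g.right.toAdd.val) h * g.left⁻¹) := by
    intro g h
    conv_lhs => rw [← SemidirectProduct.inl_left_mul_inr_right g]
    rw [map_mul, map_mul, map_inv, show (C.β ^ g.right.toAdd.val) h =
      (powHom C.β (q ^ r) hβr g.right) h from rfl, SemidirectProduct.inl_aut, map_inv]
    simp only [mul_inv_rev, map_inv, mul_assoc]
  have hproj : ∀ h : H, ∀ i : ℕ, (C.η ((C.β ^ i) h)).toAdd = lam ^ i * (C.η h).toAdd := fun h i => by
    have := C.act_zpow (i : ℤ) hlam0 h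
    simpa using this
  refine ⟨fun hc => ?_, fun M hM => ?_⟩
  · obtain ⟨h, hh⟩ := C.surj (Multiplicative.ofAdd 1)
    set g : G := SemidirectProduct.inr (Multiplicative.ofAdd 1) with hg
    have hgo : (orderOf g).Coprime p := by
      refine Nat.Coprime.coprime_dvd_left (orderOf_dvd_of_pow_eq_one (n := q ^ r) ?_) (hqp.pow_left r)
      rw [hg, ← map_pow, ← ofAdd_nsmul, nsmul_eq_mul, ZMod.natCast_self, zero_mul, ofAdd_zero, map_one]
    have hnorm : g ∈ normalizer ((SemidirectProduct.inl : H →* G).range : Set G) := by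
      rw [normalizer_eq_top_iff.2 (by rw [SemidirectProduct.range_inl_eq_ker_rightHom]; infer_instance)]
      exact mem_top g
    have h1 := CfsgLib.Transfer.mem_centralizer_of_hasNormalPComplement hc
      (IsPGroup.map (hH.to_subgroup ⊤) (SemidirectProduct.inl : H →* G) |> fun h => by
        rwa [← MonoidHom.range_eq_map] at h) hnorm hgo
    have h2 := mem_centralizer_iff.1 h1 _ ⟨h, rfl⟩
    have h3 := hconj g h
    rw [← h2, mul_inv_cancel_right] at h3
    have h4 := SemidirectProduct.inl_injective h3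
    haveI : Fact (1 < q ^ r) := ⟨Nat.one_lt_pow (by omega) hqF.out.one_lt⟩
    rw [hg, SemidirectProduct.right_inr, SemidirectProduct.left_inr, toAdd_ofAdd, ZMod.val_one, pow_one, one_mul,
      inv_one, mul_one] at h4
    have h5 := C.act h
    rw [← h4, hh, toAdd_ofAdd, mul_one] at h5
    exact hlam1 h5.symm
  refine CfsgLib.Transfer.hasNormalPComplement_of_frobeniusCond fun Q hQ g hg hgo => ?_
  -- the part of `M` in the normal `p`-subgroup
  set S : Subgroup H := M.comap (SemidirectProduct.inl : H →* G) with hS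
  have hQmem : ∀ x ∈ Q, ∃ h ∈ S, (x : G) = SemidirectProduct.inl h := by
    intro x hx
    obtain ⟨k, hk⟩ := hQ ⟨x, hx⟩
    have hk' : ((x : G).right) ^ p ^ k = 1 := by
      have h0 := congrArg (fun y : Q => SemidirectProduct.rightHom ((y : M) : G)) hk
      simp only [SubmonoidClass.coe_pow, map_pow, OneMemClass.coe_one, map_one] at h0
      exact h0
    have h1 : (x : G).right ^ (q ^ r) = 1 := by
      rw [← ofAdd_toAdd (x : G).right, ← ofAdd_nsmul, nsmul_eq_mul, ZMod.natCast_self, zero_mul, ofAdd_zero]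
    have h2 : (x : G).right = 1 := by
      have := pow_gcd_eq_one.2 ⟨hk', h1⟩
      rwa [(hqp.symm.pow k r).gcd_eq_one, pow_one] at this
    refine ⟨(x : G).left, ?_, ?_⟩
    · show SemidirectProduct.inl (x : G).left ∈ M
      rw [show SemidirectProduct.inl (x : G).left = (x : G) from SemidirectProduct.ext rfl h2.symm]
      exact x.2
    · exact SemidirectProduct.ext rfl h2
  -- the conjugation of `g`
  set i := (g : G).right.toAdd.val with hi
  by_cases hqi : q ∣ i
  · -- `g` acts as the identity
    have hβi : C.β ^ i = 1 := by obtain ⟨c, hc⟩ := hqi; rw [hc, pow_mul, hβ, one_pow]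
    rw [mem_centralizer_iff]
    intro x hx
    obtain ⟨h, -, hxh⟩ := hQmem x hx
    -- the left part of `g` is trivial
    have hgl : (g : G).left = 1 := by
      have hcom : Commute (SemidirectProduct.inl (g : G).left : G) (SemidirectProduct.inr (g : G).right) := by
        rw [commute_iff_eq]
        have := SemidirectProduct.inl_aut (φ := powHom C.β (q ^ r) hβr) (g : G).right (g : G).left
        rw [show powHom C.β (q ^ r) hβr (g : G).right = C.β ^ i from rfl, hβi, MulAut.one_apply, map_inv] at this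
        exact eq_mul_inv_iff_mul_eq.1 this
      have h1 : (g : G) ^ orderOf g = 1 := by rw [← Subgroup.coe_pow, pow_orderOf_eq_one]; rfl
      conv_lhs at h1 => arg 1; rw [← SemidirectProduct.inl_left_mul_inr_right (g : G)]
      rw [hcom.mul_pow, ← map_pow, ← map_pow] at h1
      have h2 := congrArg SemidirectProduct.left h1
      rw [SemidirectProduct.mul_left, SemidirectProduct.left_inl, SemidirectProduct.left_inr, map_one, mul_one,
        SemidirectProduct.one_left] at h2
      obtain ⟨k, hk⟩ := hH (g : G).left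
      have := pow_gcd_eq_one.2 ⟨h2, hk⟩
      rwa [(hgo.pow_right k).gcd_eq_one, pow_one] at this
    apply Subtype.ext
    show (x : G) * g = g * x
    have h3 := hconj g h
    rw [← hi, hβi, MulAut.one_apply, hgl, one_mul, inv_one, mul_one, ← hxh] at h3
    exact (mul_inv_eq_iff_eq_mul.1 h3).symm
  · -- `g` generates modulo the normal subgroup
    have hinv : ∀ y ∈ (Subgroup.toAddSubgroup' (S.map C.η)), lam ^ i * y ∈ Subgroup.toAddSubgroup' (S.map C.η) := by
      rintro y ⟨h, hhS, hy⟩
      refine ⟨(g : G).left * (C.β ^ i) h * (g : G).left⁻¹, ?_, ?_⟩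
      · show SemidirectProduct.inl _ ∈ M
        rw [← hconj]
        exact mul_mem (mul_mem g.2 hhS) (inv_mem g.2)
      · rw [map_mul, map_mul, map_inv, mul_inv_cancel_comm]
        exact Multiplicative.toAdd.injective (by rw [hproj, hy]; rfl)
    by_cases hex : ∃ h ∈ S, C.η h ≠ 1
    · exfalso
      obtain ⟨h, hhS, hne⟩ := hex
      have htop := addSubgroup_eq_top (hgen i hqi) (S := Subgroup.toAddSubgroup' (S.map C.η))
        (w := (C.η h).toAdd) (fun e => hne (Multiplicative.toAdd.injective (by rw [e]; rfl))) ⟨h, hhS, rfl⟩ hinv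
      have hStop : S = ⊤ := eq_top_of_cover C.central C.ker_le fun k => by
        obtain ⟨s, hs, he⟩ : (C.η k).toAdd ∈ Subgroup.toAddSubgroup' (S.map C.η) := htop.ge (AddSubgroup.mem_top _)
        exact ⟨s, hs, he⟩
      refine hM ((eq_top_iff' M).2 fun x => ?_)
      have hinl : ∀ k : H, (SemidirectProduct.inl k : G) ∈ M := fun k => hStop.ge (mem_top k)
      obtain ⟨m, hm⟩ : ∃ m : ℕ, (g : G).right ^ m = x.right := by
        have hu : IsUnit ((g : G).right.toAdd : ZMod (q ^ r)) := by
          rw [← ZMod.natCast_zmod_val (g : G).right.toAdd, ZMod.isUnit_iff_coprime]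
          exact ((hqF.out.coprime_iff_not_dvd.2 hqi).symm).pow_right r
        obtain ⟨c, hc⟩ := hu
        refine ⟨((x.right.toAdd : ZMod (q ^ r)) * (c⁻¹ : (ZMod (q ^ r))ˣ)).val, Multiplicative.toAdd.injective ?_⟩
        rw [toAdd_pow, nsmul_eq_mul, ZMod.natCast_zmod_val, mul_assoc]
        rw [← hc, Units.inv_mul, mul_one]
      have : x = SemidirectProduct.inl (x * ((g : G) ^ m)⁻¹).left * (g : G) ^ m := by
        rw [← mul_inv_eq_iff_eq_mul]
        refine SemidirectProduct.ext (by rw [SemidirectProduct.left_inl]) ?_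
        rw [SemidirectProduct.right_inl, ← SemidirectProduct.rightHom_eq_right, map_mul, map_inv, map_pow]
        show x.right * ((g : G).right ^ m)⁻¹ = 1
        rw [hm, mul_inv_cancel]
      rw [this]
      exact mul_mem (hinl _) (M.pow_mem g.2 m)
    · push Not at hex
      rw [mem_centralizer_iff]
      intro x hx
      obtain ⟨h, hhS, hxh⟩ := hQmem x hx
      have hker : h ∈ C.η.ker := hex h hhS
      have hfix : (C.β ^ i) h = h := by
        have : C.β ∈ MulAction.stabilizer (MulAut H) h := C.fixed h hker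
        exact Subgroup.pow_mem _ this i
      apply Subtype.ext
      show (x : G) * g = g * x
      have h3 := hconj g h
      rw [← hi, hfix, mem_center_iff.1 (C.central hker) (g : G).left, mul_inv_cancel_right, ← hxh] at h3
      exact (mul_inv_eq_iff_eq_mul.1 h3).symm

end CfsgLib.UNPN
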