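import Cfsg.Agent.Lib.Solvable.UniversalNonPNilp.Cover
import Cfsg.Agent.S0132
import Cfsg.Agent.Lib.Solvable.MinimalNonNilpotent
import Mathlib.FieldTheory.Finite.GaloisField

/-!
# A minimal non-`p`-nilpotent group as an extension of a cover by a cyclic group
-/

set_option autoImplicit false

namespace CfsgLib.UNPN

open Subgroup
open scoped commutatorElement

/-- A generator of the cyclic Sylow subgroup and its action on the normal one. -/
theorem schmidt_action {X : Type*} [Group X] [Finite X] {p q r t : ℕ} [Fact p.Prime] [Fact q.Prime] (hpq : p ≠ q)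
    (h1 : ¬ Cfsg.HasNormalPComplement p X)
    (h2 : ∀ M : Subgroup X, M ≠ ⊤ → Cfsg.HasNormalPComplement p M) (hr : 1 ≤ r)
    (hX : Nat.card X = p ^ t * q ^ r) :
    ∃ (P : Subgroup X) (_ : P.Normal) (y : X), IsPGroup p P ∧ P ≠ ⊥ ∧ orderOf y = q ^ r ∧
      P ⊔ zpowers y = ⊤ ∧ P ⊓ zpowers y = ⊥ ∧
      (MulAut.conjNormal y : MulAut P) ^ q = 1 ∧
      (∀ K : Subgroup P, K.Normal → (∀ k ∈ K, (MulAut.conjNormal y : MulAut P) k ∈ K) → K ≠ ⊤ →
        ∀ k ∈ K, (MulAut.conjNormal y : MulAut P) k = k) ∧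
      closure (Set.range fun x : P => x⁻¹ * (MulAut.conjNormal y : MulAut P) x) = ⊤ := by
  have hpp : p.Prime := Fact.out
  have hqq : q.Prime := Fact.out
  obtain ⟨hprop, hnn, hnorm⟩ := Cfsg.Agent.S0132.result h1 h2
  obtain ⟨r', p', hr', hp', hne', P0, Q0, hc, hQn, hsup, hP0n, hQP⟩ :=
    CfsgLib.Solvable.minimalNonNilpotent_structure (G := X) ⟨hnn, hprop⟩
  haveI : Fact r'.Prime := ⟨hr'⟩
  haveI : Fact p'.Prime := ⟨hp'⟩
  haveI := hQn
  have hr'X : r' ∣ Nat.card X :=
    (P0.2.card_eq_or_dvd.resolve_left (fun e => hP0n (by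
      rw [eq_bot_of_card_eq _ e]; infer_instance))).trans (card_subgroup_dvd_card _)
  have hr'p : r' ≠ p := by
    rintro rfl
    exact hP0n (hnorm P0)
  have hr'q : r' = q := by
    rw [hX] at hr'X
    rcases hr'.dvd_mul.1 hr'X with h | h
    · exact absurd ((Nat.prime_dvd_prime_iff_eq hr' hpp).1 (hr'.dvd_of_dvd_pow h)) hr'p
    · exact (Nat.prime_dvd_prime_iff_eq hr' hqq).1 (hr'.dvd_of_dvd_pow h)
  subst hr'q
  have hnQ : (P0 : Subgroup X) ≤ normalizer ((Q0 : Subgroup X) : Set X) :=
    normalizer_eq_top (Q0 : Subgroup X) ▸ le_top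
  have hdisj : (Q0 : Subgroup X) ⊓ P0 = ⊥ := (IsPGroup.disjoint_of_ne p' r' hne'.symm _ _ Q0.2 P0.2).eq_bot
  have hcard : Nat.card X = Nat.card (Q0 : Subgroup X) * Nat.card (P0 : Subgroup X) := by
    have h1 := CfsgLib.Solvable.card_sup_of_disjoint hnQ hdisj
    rwa [sup_comm, hsup, card_top] at h1
  have hQ1 : (Q0 : Subgroup X) ≠ ⊥ := fun e => hP0n (by
    rw [show (P0 : Subgroup X) = ⊤ by rw [← hsup, e, sup_bot_eq]]; infer_instance)
  have hp'p : p' = p := by
    have h : p' ∣ Nat.card X :=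
      (Q0.2.card_eq_or_dvd.resolve_left (mt (eq_bot_of_card_eq _) hQ1)).trans (card_subgroup_dvd_card _)
    rw [hX] at h
    rcases hp'.dvd_mul.1 h with h | h
    · exact (Nat.prime_dvd_prime_iff_eq hp' hpp).1 (hp'.dvd_of_dvd_pow h)
    · exact absurd ((Nat.prime_dvd_prime_iff_eq hp' hqq).1 (hp'.dvd_of_dvd_pow h)) hne'.symm
  subst hp'p
  have hP0card : Nat.card (P0 : Subgroup X) = r' ^ r := by
    rw [P0.card_eq_multiplicity, hX, Nat.factorization_mul (pow_ne_zero _ hpp.ne_zero) (pow_ne_zero _ hqq.ne_zero),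
      Finsupp.add_apply, hpp.factorization_pow, hqq.factorization_pow, Finsupp.single_eq_same,
      Finsupp.single_eq_of_ne hne', zero_add]
  obtain ⟨y, hy⟩ := hc.exists_zpow_surjective
  have hP0z : (P0 : Subgroup X) = zpowers (y : X) := by
    refine le_antisymm (fun g hg => ?_) (zpowers_le.2 y.2)
    obtain ⟨n, hn⟩ := hy ⟨g, hg⟩
    exact ⟨n, by simpa using congrArg Subtype.val hn⟩
  have hyo : orderOf (y : X) = r' ^ r := by rw [← Nat.card_zpowers, ← hP0z, hP0card]
  refine ⟨Q0, hQn, y, Q0.2, hQ1, hyo, by rw [← hP0z, sup_comm, hsup], by rw [← hP0z, hdisj], ?_, ?_, ?_⟩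
  · refine MulEquiv.ext fun g => Subtype.ext ?_
    set A := zpowers ((y : X) ^ r') with hA
    have hAP0 : A ≤ P0 := zpowers_le.2 (pow_mem y.2 r')
    have hlt : (Q0 : Subgroup X) ⊔ A ≠ ⊤ := by
      intro e
      have h1 := CfsgLib.Solvable.card_sup_of_disjoint (hAP0.trans hnQ) (eq_bot_mono (inf_le_inf_left _ hAP0) hdisj)
      rw [e, card_top, hcard, hA, hP0card, Nat.card_zpowers] at h1
      have h2 := Nat.eq_of_mul_eq_mul_left Nat.card_pos h1
      rw [orderOf_pow_of_dvd hqq.ne_zero (hyo ▸ dvd_pow_self r' (by omega)), hyo] at h2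
      exact absurd h2.symm (Nat.div_lt_self (pow_pos hqq.pos r) hqq.one_lt).ne
    have hcm : Commute ((y : X) ^ r') (g : X) :=
      CfsgLib.OddLocal.commute_of_mem_nilpotent (hprop _ hlt) (mem_sup_right (mem_zpowers _)) (mem_sup_left g.2)
        (((IsPGroup.coprime_card_of_ne r' p' hne' _ _ P0.2 Q0.2).coprime_dvd_left
          (Subgroup.orderOf_dvd_natCard _ (pow_mem y.2 r'))).coprime_dvd_right
            (Subgroup.orderOf_dvd_natCard _ g.2))
    show ((((MulAut.conjNormal (y : X) : MulAut (Q0 : Subgroup X)) ^ r') g : (Q0 : Subgroup X)) : X) = g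
    rw [← map_pow, MulAut.conjNormal_apply, hcm.eq, mul_inv_cancel_right]
  · intro K hK hαK hKt k hk
    set K' := K.map (Q0 : Subgroup X).subtype with hK'
    have hyK : (y : X) ∈ normalizer (K' : Set X) := by
      have hle : K'.map (MulAut.conj (y : X)).toMonoidHom ≤ K' := by
        rintro _ ⟨_, ⟨g, hg, rfl⟩, rfl⟩
        exact ⟨_, hαK g hg, rfl⟩
      exact CfsgLib.Solvable.mem_normalizer_of_conj_mem fun g hg => hle ⟨g, hg, rfl⟩
    have hlt : K' ⊔ zpowers (y : X) ≠ ⊤ := by
      intro e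
      have h1 := CfsgLib.Solvable.card_sup_of_disjoint (zpowers_le.2 hyK)
        (eq_bot_mono (inf_le_inf (map_subtype_le K) (zpowers_le.2 y.2)) hdisj)
      rw [e, card_top, hcard, ← hP0z] at h1
      have h2 := Nat.eq_of_mul_eq_mul_right Nat.card_pos h1
      rw [hK', card_map_of_injective (Subgroup.subtype_injective _)] at h2
      exact hKt (eq_top_of_card_eq K h2.symm)
    have hcm : Commute (y : X) (k : X) := CfsgLib.OddLocal.commute_of_mem_nilpotent (hprop _ hlt)
      (mem_sup_right (mem_zpowers _)) (mem_sup_left ⟨k, hk, rfl⟩)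
      (((IsPGroup.coprime_card_of_ne r' p' hne' _ _ P0.2 Q0.2).coprime_dvd_left
        (Subgroup.orderOf_dvd_natCard _ y.2)).coprime_dvd_right (Subgroup.orderOf_dvd_natCard _ k.2))
    refine Subtype.ext ?_
    show (((MulAut.conjNormal (y : X) : MulAut (Q0 : Subgroup X)) k : (Q0 : Subgroup X)) : X) = k
    rw [MulAut.conjNormal_apply, hcm.eq, mul_inv_cancel_right]
  · set α : MulAut (Q0 : Subgroup X) := MulAut.conjNormal (y : X)
    set S := closure (Set.range fun x : (Q0 : Subgroup X) => x⁻¹ * α x) with hS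
    have hnat : ∀ (n : ℕ) (x : (Q0 : Subgroup X)), x⁻¹ * (α ^ n) x ∈ S := by
      intro n
      induction n with
      | zero => intro x; simp [one_mem]
      | succ n ih =>
        intro x
        have h2 : ((α ^ n) x)⁻¹ * α ((α ^ n) x) ∈ S := subset_closure ⟨_, rfl⟩
        have h3 := mul_mem (ih x) h2
        rw [pow_succ', MulAut.mul_apply]
        simpa [mul_assoc] using h3
    have hle : ⁅(Q0 : Subgroup X), (P0 : Subgroup X)⁆ ≤ S.map (Q0 : Subgroup X).subtype := by
      refine Subgroup.commutator_le.2 fun g hg a ha => ?_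
      rw [hP0z] at ha
      obtain ⟨n, rfl⟩ := mem_powers_iff_mem_zpowers.2 ha
      refine ⟨(⟨g, hg⟩ : (Q0 : Subgroup X))⁻¹⁻¹ * (α ^ n) (⟨g, hg⟩ : (Q0 : Subgroup X))⁻¹, hnat n _, ?_⟩
      show g⁻¹⁻¹ * ((((MulAut.conjNormal (y : X) : MulAut (Q0 : Subgroup X)) ^ n) (⟨g, hg⟩ : (Q0 : Subgroup X))⁻¹ :
        (Q0 : Subgroup X)) : X) = ⁅g, (y : X) ^ n⁆
      rw [← map_pow, MulAut.conjNormal_apply, inv_inv, commutatorElement_def]
      simp [mul_assoc]
    rw [hQP] at hle
    rw [eq_top_iff]
    intro g _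
    obtain ⟨s, hs, hsg⟩ := hle g.2
    exact (Subtype.ext hsg : s = g) ▸ hs

variable {p : ℕ} [hp : Fact p.Prime]

/-- An irreducible automorphism of prime order of an elementary abelian group is the multiplication by a root of
unity of a field of order `p ^ a`, up to a power. -/
theorem exists_field_coord {a q : ℕ} [hqF : Fact q.Prime] (ha : a = orderOf (p : ZMod q))
    {K : Type*} [Field K] [Algebra (ZMod p) K] [Finite K] (hK : Nat.card K = p ^ a) {lam : K}
    (hlam : IsPrimitiveRoot lam q)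
    {V : Type*} [AddCommGroup V] [Module (ZMod p) V] [Finite V] [Nontrivial V] (T : Module.End (ZMod p) V)
    (hTq : T ^ q = 1) (hT1 : T ≠ 1) (hirr : ∀ U : Submodule (ZMod p) V, (∀ u ∈ U, T u ∈ U) → U = ⊥ ∨ U = ⊤) :
    ∃ (e : V ≃+ K) (j : ℕ), 0 < j ∧ ∀ v, e ((T ^ j) v) = lam * e v := by
  classical
  have hqp : q.Prime := hqF.out
  haveI : Finite (Module.End (ZMod p) V) := Finite.of_injective (fun f => (f : V → V)) DFunLike.coe_injective
  let R : Subalgebra (ZMod p) (Module.End (ZMod p) V) := Algebra.adjoin (ZMod p) {T}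
  have hcT : ∀ f ∈ R, f * T = T * f := fun f hf => by
    have h := Algebra.adjoin_le_centralizer_centralizer (ZMod p) {T} hf
    exact (h T (fun g hg => by rw [Set.mem_singleton_iff.1 hg])).symm
  have hinj : ∀ f ∈ R, f ≠ 0 → Function.Injective f := by
    intro f hf hf0
    rcases hirr (LinearMap.ker f) (fun u hu => by
      rw [LinearMap.mem_ker] at hu ⊢
      rw [← Module.End.mul_apply, hcT f hf, Module.End.mul_apply, hu, map_zero]) with h | h
    · exact LinearMap.ker_eq_bot.1 h
    · exact absurd (LinearMap.ker_eq_top.1 h) hf0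
  letI : CommRing R :=
    { (inferInstance : Ring R) with
      mul_comm := fun f g => Subtype.ext (by
        have h := Algebra.adjoin_le_centralizer_centralizer (ZMod p) {T} g.2
        exact h f (fun x hx => by rw [Set.mem_singleton_iff.1 hx]; exact (hcT f f.2).symm)) }
  haveI : Nontrivial R := ⟨⟨1, 0, fun h => by
    obtain ⟨v, hv⟩ := exists_ne (0 : V)
    exact hv (LinearMap.congr_fun (congrArg Subtype.val h) v)⟩⟩
  haveI : NoZeroDivisors R := ⟨fun {f g} h => by
    by_contra hc
    push Not at hc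
    have hg : (g : Module.End (ZMod p) V) ≠ 0 := fun e => hc.2 (Subtype.ext e)
    have hf : (f : Module.End (ZMod p) V) ≠ 0 := fun e => hc.1 (Subtype.ext e)
    refine hg (LinearMap.ext fun v => hinj f f.2 hf ?_)
    rw [LinearMap.zero_apply, map_zero]
    exact LinearMap.congr_fun (congrArg Subtype.val h) v⟩
  haveI : IsDomain R := NoZeroDivisors.to_isDomain R
  letI : Field R := (Finite.isDomain_to_isField R).toField
  let T' : R := ⟨T, Algebra.self_mem_adjoin_singleton (ZMod p) T⟩
  have hT'q : T' ^ q = 1 := Subtype.ext hTq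
  have hT'o : orderOf T' = q := orderOf_eq_prime hT'q fun h => hT1 (congrArg Subtype.val h)
  obtain ⟨v0, hv0⟩ := exists_ne (0 : V)
  let ev : R →ₗ[ZMod p] V :=
    { toFun := fun f => (f : Module.End (ZMod p) V) v0
      map_add' := fun f g => rfl
      map_smul' := fun c f => rfl }
  have hevb : Function.Bijective ev := by
    refine ⟨fun f g h => ?_, LinearMap.range_eq_top.1 ((hirr (LinearMap.range ev) ?_).resolve_left fun h => ?_)⟩
    · by_contra hne
      refine hv0 (hinj _ (R.sub_mem f.2 g.2) (fun e => hne (Subtype.ext (sub_eq_zero.1 e))) ?_)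
      rw [map_zero, LinearMap.sub_apply]
      exact sub_eq_zero.2 h
    · rintro _ ⟨f, rfl⟩
      exact ⟨T' * f, rfl⟩
    · have hm := LinearMap.mem_range_self ev 1
      rw [h, Submodule.mem_bot] at hm
      exact hv0 hm
  -- the two fields have the same order
  haveI : Fintype R := Fintype.ofFinite R
  haveI : Fintype K := Fintype.ofFinite K
  haveI : CharP R p := charP_of_injective_algebraMap (FaithfulSMul.algebraMap_injective (ZMod p) R) p
  haveI : CharP K p := charP_of_injective_algebraMap (FaithfulSMul.algebraMap_injective (ZMod p) K) p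
  obtain ⟨d, hd⟩ : ∃ d, Nat.card R = p ^ d :=
    ⟨Module.finrank (ZMod p) R, by
      rw [Nat.card_eq_fintype_card, Module.card_eq_pow_finrank (K := ZMod p) (V := R), ZMod.card]⟩
  have hda : d = a := by
    have hqd : q ∣ p ^ d - 1 := by
      rw [← hT'o, ← hd, Nat.card_eq_fintype_card]
      exact orderOf_dvd_of_pow_eq_one (FiniteField.pow_card_sub_one_eq_one T' (fun e => hT1 (by
        have h := congrArg (fun x : R => x ^ q) e
        simp only [hT'q, zero_pow hqp.ne_zero] at h
        exact absurd h one_ne_zero)))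
    have hd0 : d ≠ 0 := fun h => by
      rw [h, pow_zero] at hd
      exact absurd hd (Finite.one_lt_card (α := R)).ne'
    have had : a ∣ d := by
      rw [ha]
      refine orderOf_dvd_of_pow_eq_one ?_
      have := (CharP.cast_eq_zero_iff (ZMod q) q _).2 hqd
      rw [Nat.cast_sub (Nat.one_le_pow _ _ hp.out.pos), sub_eq_zero, Nat.cast_pow, Nat.cast_one] at this
      exact this
    -- the Frobenius power fixes the generator
    have hfix : ∀ x : R, x ^ p ^ a = x := by
      intro x
      let φ : R →+* R := iterateFrobenius R p a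
      have hφ : ∀ y, φ y = y ^ p ^ a := fun y => iterateFrobenius_def _ _ _
      obtain ⟨f, hf⟩ := x
      induction hf using Algebra.adjoin_induction with
      | mem f hf =>
        obtain rfl := Set.mem_singleton_iff.1 hf
        show T' ^ p ^ a = T'
        have h1 : ((p ^ a : ℕ) : ZMod q) = ((1 : ℕ) : ZMod q) := by
          rw [Nat.cast_pow, ha, pow_orderOf_eq_one, Nat.cast_one]
        rw [ZMod.natCast_eq_natCast_iff', Nat.mod_eq_of_lt hqp.one_lt] at h1
        rw [← pow_mod_orderOf, hT'o, h1, pow_one]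
      | algebraMap c =>
        show (algebraMap (ZMod p) R c) ^ p ^ a = algebraMap (ZMod p) R c
        rw [← map_pow, ZMod.pow_card_pow]
      | add f g hf hg ihf ihg =>
        show (⟨f, hf⟩ + ⟨g, hg⟩ : R) ^ p ^ a = ⟨f, hf⟩ + ⟨g, hg⟩
        rw [← hφ, map_add, hφ, hφ, ihf, ihg]
      | mul f g hf hg ihf ihg =>
        show (⟨f, hf⟩ * ⟨g, hg⟩ : R) ^ p ^ a = ⟨f, hf⟩ * ⟨g, hg⟩
        rw [mul_pow, ihf, ihg]
    have hle : d ≤ a := by
      have ha0 : 0 < a := Nat.pos_of_ne_zero fun h => hd0 (by simpa [h] using had)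
      have h1 : Nat.card R ≤ p ^ a := by
        rw [Nat.card_eq_fintype_card]
        have hdeg := FiniteField.X_pow_card_pow_sub_X_natDegree_eq R ha0.ne' hp.out.one_lt
        have hne := FiniteField.X_pow_card_pow_sub_X_ne_zero R ha0.ne' hp.out.one_lt
        calc Fintype.card R = (Finset.univ : Finset R).card := rfl
          _ ≤ (Polynomial.X ^ p ^ a - Polynomial.X : Polynomial R).roots.toFinset.card :=
              Finset.card_le_card fun x _ => by
                rw [Multiset.mem_toFinset, Polynomial.mem_roots hne, Polynomial.IsRoot.def]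
                simp [hfix x]
          _ ≤ p ^ a := (Multiset.toFinset_card_le _).trans ((Polynomial.card_roots' _).trans hdeg.le)
      rw [hd] at h1
      exact (Nat.pow_le_pow_iff_right hp.out.one_lt).1 h1
    exact le_antisymm hle (Nat.le_of_dvd (Nat.pos_of_ne_zero hd0) had)
  obtain ⟨ι⟩ : Nonempty (R ≃ₐ[ZMod p] K) := by
    refine ⟨FiniteField.algEquivOfCardEq p ?_⟩
    rw [← Nat.card_eq_fintype_card, ← Nat.card_eq_fintype_card, hd, hK, hda]
  have hι : IsPrimitiveRoot (ι T') q := by
    have h := (IsPrimitiveRoot.orderOf T').map_of_injective (f := ι) ι.injective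
    rwa [hT'o] at h
  obtain ⟨j, -, hj⟩ := hι.eq_pow_of_pow_eq_one hlam.pow_eq_one
  refine ⟨(LinearEquiv.ofBijective ev hevb).symm.toAddEquiv.trans ι.toAddEquiv, j, ?_, fun v => ?_⟩
  · refine Nat.pos_of_ne_zero fun h => hlam.ne_one hqp.one_lt ?_
    rw [← hj, h, pow_zero]
  · obtain ⟨f, rfl⟩ := hevb.2 v
    show ι ((LinearEquiv.ofBijective ev hevb).symm ((T ^ j) (ev f))) =
      lam * ι ((LinearEquiv.ofBijective ev hevb).symm (ev f))
    have e1 : (T ^ j) (ev f) = ev (T' ^ j * f) := rfl
    have e2 : ∀ g, (LinearEquiv.ofBijective ev hevb).symm (ev g) = g := fun g =>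
      (LinearEquiv.ofBijective ev hevb).symm_apply_apply g
    rw [e1, e2, e2, map_mul, map_pow, hj]

theorem exists_field_coord_group_aux {a q : ℕ} [Fact q.Prime] (ha : a = orderOf (p : ZMod q))
    {K : Type*} [Field K] [Algebra (ZMod p) K] [Finite K] (hK : Nat.card K = p ^ a) {lam : K}
    (hlam : IsPrimitiveRoot lam q)
    {A : Type*} [CommGroup A] [Finite A] [Nontrivial A] [Module (ZMod p) (Additive A)] (f : MulAut A)
    (hfq : f ^ q = 1) (hf1 : f ≠ 1) (hirr : ∀ U : Subgroup A, (∀ u ∈ U, f u ∈ U) → U = ⊥ ∨ U = ⊤) :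
    ∃ (e : Additive A ≃+ K) (j : ℕ), 0 < j ∧ ∀ z : A, e (Additive.ofMul ((f ^ j) z)) = lam * e (Additive.ofMul z) := by
  let T : Module.End (ZMod p) (Additive A) := (MonoidHom.toAdditive f.toMonoidHom).toZModLinearMap p
  have hTn : ∀ (n : ℕ) (z : A), (T ^ n) (Additive.ofMul z) = Additive.ofMul ((f ^ n) z) := by
    intro n
    induction n with
    | zero => intro z; rfl
    | succ n ih =>
      intro z
      rw [pow_succ, Module.End.mul_apply, pow_succ, MulAut.mul_apply, ← ih]
      rfl
  have hTq : T ^ q = 1 := LinearMap.ext fun v => by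
    rw [← ofMul_toMul v, hTn, hfq]
    rfl
  have hT1 : T ≠ 1 := fun h => hf1 (MulEquiv.ext fun z =>
    Additive.ofMul.injective (LinearMap.congr_fun h (Additive.ofMul z)))
  have hirr' : ∀ U : Submodule (ZMod p) (Additive A), (∀ u ∈ U, T u ∈ U) → U = ⊥ ∨ U = ⊤ := by
    intro U hU
    rcases hirr (AddSubgroup.toSubgroup' U.toAddSubgroup) (fun z hz => hU _ hz) with h | h
    · left
      refine eq_bot_iff.2 fun v hv => ?_
      have hm : Additive.toMul v ∈ AddSubgroup.toSubgroup' U.toAddSubgroup := hv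
      rw [h, Subgroup.mem_bot] at hm
      exact (congrArg Additive.ofMul hm : _)
    · right
      exact eq_top_iff.2 fun v _ => h.ge (mem_top (Additive.toMul v))
  obtain ⟨e, j, hj, he⟩ := exists_field_coord ha hK hlam T hTq hT1 hirr'
  exact ⟨e, j, hj, fun z => by rw [← hTn]; exact he _⟩

/-- The same for an elementary abelian group written multiplicatively. -/
theorem exists_field_coord_group {a q : ℕ} [Fact q.Prime] (ha : a = orderOf (p : ZMod q))
    {K : Type*} [Field K] [Algebra (ZMod p) K] [Finite K] (hK : Nat.card K = p ^ a) {lam : K}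
    (hlam : IsPrimitiveRoot lam q)
    {A : Type*} [CommGroup A] [Finite A] [Nontrivial A] (hA : ∀ z : A, z ^ p = 1) (f : MulAut A)
    (hfq : f ^ q = 1) (hf1 : f ≠ 1) (hirr : ∀ U : Subgroup A, (∀ u ∈ U, f u ∈ U) → U = ⊥ ∨ U = ⊤) :
    ∃ (e : Additive A ≃+ K) (j : ℕ), 0 < j ∧ ∀ z : A, e (Additive.ofMul ((f ^ j) z)) = lam * e (Additive.ofMul z) := by
  letI : Module (ZMod p) (Additive A) := AddCommGroup.zmodModule fun v =>
    congrArg Additive.ofMul (hA (Additive.toMul v))
  exact exists_field_coord_group_aux ha hK hlam f hfq hf1 hirr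

/-- The normal Sylow subgroup is a cover. -/
theorem exists_cover {X : Type*} [Group X] [Finite X] {a q r t : ℕ} [Fact q.Prime] (hpq : p ≠ q)
    (ha : a = orderOf (p : ZMod q)) {K : Type*} [Field K] [Algebra (ZMod p) K] [Finite K] (hK : Nat.card K = p ^ a)
    {lam : K} (hlam : IsPrimitiveRoot lam q) (h1 : ¬ Cfsg.HasNormalPComplement p X)
    (h2 : ∀ M : Subgroup X, M ≠ ⊤ → Cfsg.HasNormalPComplement p M) (hr : 1 ≤ r)
    (hX : Nat.card X = p ^ t * q ^ r) :
    ∃ (P : Subgroup X) (_ : P.Normal) (y : X) (C : Cov p lam P), orderOf y = q ^ r ∧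
      P ⊔ zpowers y = ⊤ ∧ P ⊓ zpowers y = ⊥ ∧ C.β = MulAut.conjNormal y := by
  have hqq : q.Prime := Fact.out
  obtain ⟨P, hPn, y, hP, hP1, hyo, hsup, hinf, hαq, hprop, hgen⟩ := schmidt_action hpq h1 h2 hr hX
  set α : MulAut P := MulAut.conjNormal y with hα
  haveI : Nontrivial P := (nontrivial_iff_ne_bot P).2 hP1
  have hcen : ∀ S : Subgroup P, S.Normal → (∀ k ∈ S, α k ∈ S) → S ≠ ⊤ → S ≤ center P := by
    intro K hK hαK hKt k hk
    rw [mem_center_iff]
    intro g
    have hle : closure (Set.range fun x : P => x⁻¹ * α x) ≤ centralizer {k} := by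
      rw [closure_le]
      rintro _ ⟨x, rfl⟩
      rw [SetLike.mem_coe, mem_centralizer_singleton_iff]
      have h1 := hprop K hK hαK hKt _ (hK.conj_mem k hk x)
      rw [map_mul, map_mul, map_inv, hprop K hK hαK hKt k hk] at h1
      have h2 : α x * k = x * k * x⁻¹ * α x := by rw [← h1, inv_mul_cancel_right]
      calc x⁻¹ * α x * k = x⁻¹ * (α x * k) := mul_assoc _ _ _
        _ = k * (x⁻¹ * α x) := by rw [h2]; group
    exact mem_centralizer_singleton_iff.1 (hle (hgen.ge (mem_top g)))
  have hFi : ∀ k ∈ frattini P, α k ∈ frattini P := fun k hk =>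
    (characteristic_iff_map_le.1 (inferInstance : (frattini P).Characteristic) α) ⟨k, hk, rfl⟩
  have hFt : frattini P ≠ ⊤ := PGroup.frattini_ne_top hP
  have hFc : frattini P ≤ center P := hcen _ inferInstance hFi hFt
  have hFf := hprop _ (inferInstance : (frattini P).Normal) hFi hFt
  have hcF : _root_.commutator P ≤ frattini P := PGroup.commutator_le_frattini hP
  let π : P →* Abelianization P := Abelianization.of
  have hker : ∀ g : P, π g = 1 ↔ g ∈ _root_.commutator P := fun g =>
    QuotientGroup.eq_one_iff (N := _root_.commutator P) g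
  have hπs : Function.Surjective π := QuotientGroup.mk_surjective
  let D : Abelianization P →* Abelianization P :=
    MonoidHom.mk' (fun x => x⁻¹ * Abelianization.map α.toMonoidHom x)
      fun x y => by rw [map_mul, mul_inv]; exact mul_mul_mul_comm _ _ _ _
  have hmap : ∀ h, Abelianization.map α.toMonoidHom (π h) = π (α h) := fun h => Abelianization.lift_apply_of _ h
  have hD : Function.Surjective D := by
    intro z
    obtain ⟨h, rfl⟩ := hπs z
    have hle : closure (Set.range fun x : P => x⁻¹ * α x) ≤ D.range.comap π := by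
      rw [closure_le]
      rintro _ ⟨x, rfl⟩
      exact ⟨π x, by show (π x)⁻¹ * _ = π (x⁻¹ * α x); rw [hmap, map_mul, map_inv]⟩
    exact hle (hgen.ge (mem_top h))
  have hDi : Function.Injective D := Finite.injective_iff_surjective.2 hD
  have hfix1 : ∀ h, α h = h → h ∈ _root_.commutator P := fun h hh => (hker h).1 (hDi (by
    rw [map_one]; show (π h)⁻¹ * _ = 1; rw [hmap, hh, inv_mul_cancel]))
  have hpow : ∀ h : P, h ^ p ∈ _root_.commutator P := fun h => hfix1 _ (hFf _ (PGroup.pow_mem_frattini hP h))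
  have hexp : ∀ z ∈ _root_.commutator P, z ^ p = 1 := by
    let S : Subgroup P :=
      { carrier := {z | z ∈ center P ∧ z ^ p = 1}
        one_mem' := ⟨one_mem _, one_pow _⟩
        mul_mem' := fun {a b} ha hb => ⟨mul_mem ha.1 hb.1, by
          rw [(show Commute a b from (mem_center_iff.1 ha.1 b).symm).mul_pow, ha.2, hb.2, one_mul]⟩
        inv_mem' := fun {a} ha => ⟨inv_mem ha.1, by rw [inv_pow, ha.2, inv_one]⟩ }
    have hle : _root_.commutator P ≤ S := Subgroup.commutator_le.2 fun a _ b _ => by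
      have hc : ⁅a, b⁆ ∈ center P := hFc (hcF (commutator_mem_commutator (mem_top a) (mem_top b)))
      refine ⟨hc, ?_⟩
      rw [← PGroup.comm_pow_left hc, commutatorElement_eq_one_iff_mul_comm]
      exact (mem_center_iff.1 (hFc (PGroup.pow_mem_frattini hP a)) b).symm
    exact fun z hz => (hle hz).2
  -- the quotient by the commutator subgroup
  have hV : ∀ v : Abelianization P, ∃ h, π h = v := hπs
  have hA : ∀ v : Abelianization P, v ^ p = 1 := fun v => by
    obtain ⟨h, rfl⟩ := hV v
    rw [← map_pow, (hker _).2 (hpow h)]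
  haveI : Nontrivial (Abelianization P) := by
    obtain ⟨h, hh⟩ : ∃ h, h ∉ _root_.commutator P := by
      by_contra hc
      push Not at hc
      exact hFt ((eq_top_iff' _).2 fun h => hcF (hc h))
    exact ⟨⟨π h, 1, fun e => hh ((hker h).1 e)⟩⟩
  let T : MulAut (Abelianization P) := (α : P ≃* P).abelianizationCongr
  have hT : ∀ h, T (π h) = π (α h) := hmap
  have hTn : ∀ (n : ℕ) (h : P), (T ^ n) (π h) = π ((α ^ n) h) := by
    intro n
    induction n with
    | zero => intro h; rfl
    | succ n ih => intro h; rw [pow_succ, MulAut.mul_apply, hT, ih, pow_succ, MulAut.mul_apply]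
  have hT1 : T ≠ 1 := by
    intro e
    obtain ⟨v, hv⟩ := exists_ne (1 : Abelianization P)
    obtain ⟨h, rfl⟩ := hV v
    refine hv (hDi ?_)
    rw [map_one]
    show (π h)⁻¹ * _ = 1
    rw [hmap, ← hT, e, MulAut.one_apply, inv_mul_cancel]
  have hirr : ∀ U : Subgroup (Abelianization P), (∀ u ∈ U, T u ∈ U) → U = ⊥ ∨ U = ⊤ := by
    intro U hU
    let S : Subgroup P := U.comap π
    by_cases hS : S = ⊤
    · right
      refine eq_top_iff.2 fun v _ => ?_
      obtain ⟨h, rfl⟩ := hV v
      exact hS.ge (mem_top h)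
    · left
      refine eq_bot_iff.2 fun v hv => ?_
      obtain ⟨h, rfl⟩ := hV v
      have hfix : α h = h := hprop S inferInstance (fun k hk => by
        show π (α k) ∈ U
        rw [← hT]
        exact hU _ hk) hS h hv
      rw [Subgroup.mem_bot, (hker h).2 (hfix1 h hfix)]
  have hTq : T ^ q = 1 := MulEquiv.ext fun v => by
    obtain ⟨h, rfl⟩ := hV v
    rw [hTn, hαq]
    rfl
  obtain ⟨e, j, hj0, he⟩ := exists_field_coord_group ha hK hlam hA T hTq hT1 hirr
  have hαj : (α ^ j : MulAut P) = MulAut.conjNormal (y ^ j) := by rw [hα, ← map_pow]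
  have hjq : ¬ q ∣ j := by
    rintro ⟨c, rfl⟩
    obtain ⟨v, hv⟩ := exists_ne (1 : Abelianization P)
    have h := he v
    rw [pow_mul, hTq, one_pow, MulAut.one_apply] at h
    exact hlam.ne_one hqq.one_lt (mul_right_cancel₀
      (fun h0 => hv (Additive.ofMul.injective (e.injective (h0.trans (map_zero e).symm))))
      (h.symm.trans (one_mul _).symm))
  have hgy : zpowers (y ^ j) = zpowers y := by
    refine Subgroup.eq_of_le_of_card_ge (zpowers_le.2 (pow_mem (mem_zpowers y) j)) ?_
    rw [Nat.card_zpowers, Nat.card_zpowers, Nat.Coprime.orderOf_pow]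
    rw [hyo]
    exact (hqq.coprime_iff_not_dvd.2 hjq).pow_left r
  let η : P →* Multiplicative K :=
    (AddMonoidHom.toMultiplicativeRight e.toAddMonoidHom).comp π
  have hη : ∀ h, (η h).toAdd = e (Additive.ofMul (π h)) := fun h => rfl
  have hkη : η.ker = _root_.commutator P := by
    ext h
    rw [MonoidHom.mem_ker, ← hker]
    constructor
    · intro h0
      have := congrArg Multiplicative.toAdd h0
      rw [hη, toAdd_one, map_eq_zero_iff _ e.injective] at this
      exact congrArg Additive.toMul this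
    · intro h0
      apply Multiplicative.toAdd.injective
      rw [hη, h0, toAdd_one, ofMul_one, map_zero]
  refine ⟨P, hPn, y ^ j,
    { β := α ^ j, η := η
      surj := fun z => by
        obtain ⟨v, hv⟩ := e.surjective z.toAdd
        obtain ⟨h, hh⟩ := hV (Additive.toMul v)
        exact ⟨h, Multiplicative.toAdd.injective (by rw [hη, hh]; exact hv)⟩
      act := fun h => by rw [hη, hη, ← hTn, he]
      central := hkη ▸ hcF.trans hFc
      fixed := fun z hz => by
        have : α ∈ MulAction.stabilizer (MulAut P) z := hFf z (hcF (hkη ▸ hz))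
        exact Subgroup.pow_mem _ this j
      exp := fun z hz => hexp z (hkη ▸ hz)
      ker_le := hkη.le }, ?_, ?_, ?_, hαj⟩
  · rw [← Nat.card_zpowers, hgy, Nat.card_zpowers, hyo]
  · rw [hgy, hsup]
  · rw [hgy, hinf]

end CfsgLib.UNPN
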